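import Mathlib
import Cfsg.Agent.H209.EPX.Defs_m3
import Cfsg.Agent.TitsThree.RankTwoZ
import Cfsg.Agent.KFacts.TwF4.Rot
import Cfsg.Agent.KFacts.TwF4.SylU
import Cfsg.Agent.KFacts.TwF4.Full
import Cfsg.Agent.FastGrp
import Cfsg.Agent.Prune
set_option linter.all false
prune_inst 0x7ffdfefbfffdfddfffff7fffffffdffff9ffffffffdffffbffffefffbfff6fefbfedffbffdfed8ff9ef7e2be30b87853fb7eefffef6fdc7ffffd5ff41ffbee1ff7ffb7ac71ddbcbe1ffe6fff9bf97fee7f3fffffffffffffffffffffffffffffffffffffffff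
open scoped Cfsg.Agent.FastGrp

-- part: H564/EPF/Dih
section
/-!
# The dihedral group of order 16 acting on the sixteen roots of an octagon (helper564, S3499)

Roots `k : ZMod 16`, positive roots `1, …, 8`, simple roots `1` and `8`; `W = ZMod 8 × Bool`, `(c, false) : k ↦ 2c + k`,
`(c, true) : k ↦ 2c - k`.  `V`-roots: `2, …, 8` (node `0`), `1, …, 7` (node `1`).
-/

set_option autoImplicit false

namespace Cfsg.Agent.H564.EPF

/-- roots -/
abbrev Rt := ZMod (2 * 8)

/-- the Weyl group -/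
abbrev W := ZMod 8 × Bool

/-- `2 c` -/
def dbl (c : ZMod 8) : Rt := ((2 * c.val : ℕ) : Rt)

/-- the action -/
def ac (w : W) (k : Rt) : Rt := bif w.2 then dbl w.1 - k else dbl w.1 + k

/-- product -/
def mw (w v : W) : W := (w.1 + (bif w.2 then -v.1 else v.1), xor w.2 v.2)

/-- inverse -/
def iw (w : W) : W := (bif w.2 then w.1 else -w.1, w.2)

/-- positive -/
def ps (k : Rt) : Bool := decide (1 ≤ k.val) && decide (k.val ≤ 8)

/-- roots of `V_j` -/
def nr (j : Fin 2) (k : Rt) : Bool :=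
  if j = 0 then decide (2 ≤ k.val) && decide (k.val ≤ 8) else decide (1 ≤ k.val) && decide (k.val ≤ 7)

/-- simple roots -/
def sr (j : Fin 2) : Rt := if j = 0 then 1 else 8

/-- simple reflections -/
def sp (j : Fin 2) : W := if j = 0 then (5, true) else (4, true)

/-- the reflection at `k` -/
def rf (k : Rt) : W := (((k.val + 4 : ℕ) : ZMod 8), true)

theorem ac_one : ∀ k, ac (0, false) k = k := by decide

theorem dbl_add : ∀ a b : ZMod 8, dbl (a + b) = dbl a + dbl b := by decide +kernel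

theorem dbl_neg : ∀ a : ZMod 8, dbl (-a) = - dbl a := by decide

theorem ac_mw (w v : W) (k : Rt) : ac (mw w v) k = ac w (ac v k) := by
  obtain ⟨a, x⟩ := w
  obtain ⟨b, y⟩ := v
  cases x <;> cases y <;> simp only [ac, mw, cond_true, cond_false, Bool.xor_false, Bool.xor_true, Bool.not_true,
    Bool.not_false, dbl_add, dbl_neg] <;> ring

theorem ac_iw (w : W) (k : Rt) : ac w (ac (iw w) k) = k := by
  obtain ⟨a, x⟩ := w
  cases x <;> simp only [ac, iw, cond_true, cond_false, dbl_neg] <;> ring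

theorem iw_ac (w : W) (k : Rt) : ac (iw w) (ac w k) = k := by
  obtain ⟨a, x⟩ := w
  cases x <;> simp only [ac, iw, cond_true, cond_false, dbl_neg] <;> ring

/-- not in `W_j`: a root of `V_j` is moved out of it -/
theorem stab_iff : ∀ (j : Fin 2) (w : W), (∀ k, nr j k = true → nr j (ac w k) = true) → w = (0, false) ∨ w = sp j := by
  decide +kernel

theorem stab_U : ∀ w : W, (∀ k, ps k = true → ps (ac w k) = true) → w = (0, false) := by decide +kernel

theorem sp_nr : ∀ (j : Fin 2) (k : Rt), nr j k = true → nr j (ac (sp j) k) = true := by decide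

theorem ac_opp : ∀ (w : W) (k : Rt), ac w (k + 8) = ac w k + 8 := by decide +kernel

theorem ps_opp : ∀ k : Rt, ps (k + 8) = !ps k := by decide

theorem nr_ps : ∀ (j : Fin 2) (k : Rt), nr j k = true → ps k = true := by decide

theorem ps_cases : ∀ (j : Fin 2) (k : Rt), ps k = true → k = sr j ∨ nr j k = true := by decide

theorem sr_ps : ∀ j : Fin 2, ps (sr j) = true := by decide

theorem sr_not_nr : ∀ j : Fin 2, nr j (sr j) = false := by decide

/-- no descent: `w = 1` -/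
theorem eq_one_of : ∀ w : W, (∀ j : Fin 2, ps (ac (iw w) (sr j)) = true) → w = (0, false) := by decide

/-- two descents: `w` maps all positive roots to negative roots -/
theorem opp_of : ∀ w : W, (∀ j : Fin 2, ps (ac (iw w) (sr j)) = false) → ∀ k, ps k = true → ps (ac w k) = false := by
  decide +kernel

/-- the cut at a descent: node `0` -/
theorem cut0 : ∀ w : W, ps (ac (iw w) 1) = false → ∃ a : Fin 8, (∀ k : Rt, 1 ≤ k.val → k.val ≤ a.val + 1 →
    ps (ac (iw w) k) = false) ∧ ∀ k : Rt, a.val + 2 ≤ k.val → k.val ≤ 8 → ps (ac (iw w) k) = true := by decide +kernel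

/-- the cut at a descent: node `1` -/
theorem cut1 : ∀ w : W, ps (ac (iw w) 8) = false → ∃ a : Fin 8, (∀ k : Rt, 1 ≤ k.val → k.val ≤ a.val →
    ps (ac (iw w) k) = true) ∧ ∀ k : Rt, a.val + 1 ≤ k.val → k.val ≤ 8 → ps (ac (iw w) k) = false := by decide +kernel

/-- roots of `P_j` -/
theorem rf_sp : ∀ (j : Fin 2) (k : Rt), rf k = sp j → ps k = false → k = sr j + 8 := by decide

theorem rf_ne_one : ∀ k : Rt, rf k ≠ (0, false) := by decide

theorem iw_sp : ∀ j : Fin 2, iw (sp j) = sp j := by decide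

theorem mw_one : ∀ w : W, mw w (0, false) = w := by decide

theorem one_mw : ∀ w : W, mw (0, false) w = w := by decide

/-- left multiplication by a simple reflection exchanges ascents and descents -/
theorem flip : ∀ (j : Fin 2) (w : W), ps (ac (iw (mw (sp j) w)) (sr j)) = !ps (ac (iw w) (sr j)) := by decide +kernel

theorem d1 : ∀ w : W, (∀ k, ps k = true → ps (ac (iw w) k) = true) → w = (0, false) := by decide +kernel

theorem d2 : ∀ (l : Fin 2) (w : W), (∀ k, ps k = true → ps (ac (iw w) k) = true ∨ ac (iw w) k = sr l + 8) →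
    w = (0, false) ∨ w = sp l := by decide +kernel

theorem d3 : ∀ (j : Fin 2) (w : W), (∀ k, nr j k = true → ps (ac (iw w) k) = true) → w = (0, false) ∨ w = sp j := by
  decide +kernel

theorem d4 : ∀ (j l : Fin 2) (w : W), (∀ k, nr j k = true → ps (ac (iw w) k) = true ∨ ac (iw w) k = sr l + 8) →
    w = (0, false) ∨ w = sp j ∨ w = sp l ∨ w = mw (sp j) (sp l) := by decide +kernel

theorem iw_mw_cancel : ∀ w v : W, mw (iw w) (mw w v) = v := by decide +kernel

theorem rf_sr : ∀ j : Fin 2, rf (sr j) = sp j := by decide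

/-- a root of `V_j` whose reflection moves `V_j` to a neighbouring half -/
def k0 (j : Fin 2) : Rt := if j = 0 then 2 else 1

theorem k0_nr : ∀ j : Fin 2, nr j (k0 j) = true := by decide

theorem e1 : ∀ (j : Fin 2) (w : W), w ≠ (0, false) → w ≠ sp j →
    (∃ v : W, ∀ k, ps k = true → nr j (ac v k) = true ∨ nr j (ac (iw w) (ac v k)) = true) ∨
      nr j (ac (iw w) (k0 j + 8)) = true := by decide +kernel

theorem e2 : ∀ j : Fin 2, ∃ v : W, ∀ k, ps k = true → nr j (ac v k) = true ∨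
    nr j (ac (iw (rf (k0 j))) (ac v k)) = true := by decide +kernel

/-- a simple descent of `w ≠ 1`, the other one for `s_j w` -/
theorem e3 : ∀ w : W, w ≠ (0, false) → ∃ j : Fin 2, ps (ac (iw w) (sr j)) = false := by decide

theorem e4 : ∀ (j : Fin 2) (w : W), ps (ac (iw w) (sr j)) = false → (∀ i : Fin 2, i ≠ j →
    ps (ac (iw (mw (sp j) w)) (sr i)) = true) → w = sp j := by decide +kernel

theorem nr_other : ∀ i j : Fin 2, i ≠ j → nr i (sr j) = true := by decide

theorem fin2 : ∀ i j l : Fin 2, i ≠ j → l ≠ j → i = l := by decide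

end Cfsg.Agent.H564.EPF
end

-- part: H564/EPF/OD
section
/-!
# Octagonal root groups, abstract form (helper564, S3499)

`OD G` : the root groups `X k`, `k : ZMod 16`, of a group of type `²F₄`; `U = ⟨X_1, …, X_8⟩`, `V 0 = ⟨X_2, …, X_8⟩`,
`V 1 = ⟨X_1, …, X_7⟩`.  `VV J`, `P J = N(VV J)` for `J ⊆ Fin 2`; `mem_P` : the double cosets in `P J`.
-/

set_option autoImplicit false
set_option linter.unusedSectionVars false

namespace Cfsg.Agent.H564.EPF

open Cfsg.Agent.H284 Cfsg.Agent.TitsThree.RankTwoZ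

universe u

/-- Octagonal root groups. -/
structure OD (G : Type u) [Group G] where
  X : Rt → Subgroup G
  U : Subgroup G
  V : Fin 2 → Subgroup G
  X_le_U : ∀ k, ps k = true → X k ≤ U
  U_le : ∀ K : Subgroup G, (∀ k, ps k = true → X k ≤ K) → U ≤ K
  X_le_V : ∀ j k, nr j k = true → X k ≤ V j
  V_le : ∀ (j : Fin 2) (K : Subgroup G), (∀ k, nr j k = true → X k ≤ K) → V j ≤ K
  not_V : ∀ j k, nr j k = false → ∀ x ∈ X k, x ∈ V j → x = 1
  not_U : ∀ k, ps k = false → ∀ x ∈ X k, x ∈ U → x = 1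
  ne : ∀ k, ∃ x ∈ X k, x ≠ 1
  fac : ∀ j, ∀ u ∈ U, ∃ x ∈ X (sr j), ∃ v ∈ V j, u = x * v
  V_norm : ∀ j, ∀ u ∈ U, ∀ v ∈ V j, u * v * u⁻¹ ∈ V j
  cut : ∀ (j : Fin 2) (w : W) (m : G), Maps X m (ac w) → ps (ac (iw w) (sr j)) = false →
    ∀ u ∈ U, m⁻¹ * u * m ∈ U → u ∈ V j
  opp : ∀ (w : W) (m : G), Maps X m (ac w) → (∀ k, ps k = true → ps (ac w k) = false) →
    ∀ u ∈ U, m * u * m⁻¹ ∈ U → u = 1
  bru : ∀ g, ∃ w : W, ∃ b ∈ U, ∃ m, Maps X m (ac w) ∧ ∃ b' ∈ U, g = b * m * b'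
  rep : ∀ w : W, ∃ m, Maps X m (ac w)
  mu : ∀ k, ∀ u ∈ X k, u ≠ 1 → ∃ v ∈ X (k + 8), ∃ v' ∈ X (k + 8), Maps X (v * u * v') (ac (rf k))
  gen : ∀ K : Subgroup G, (∀ k, X k ≤ K) → K = ⊤

theorem mem_nm {G : Type u} [Group G] [Finite G] {K : Subgroup G} {x : G} (h : ∀ a ∈ K, x * a * x⁻¹ ∈ K) :
    x ∈ Subgroup.normalizer (K : Set G) := by
  have h1 : cj x K ≤ K := by
    rintro _ ⟨a, ha, rfl⟩
    exact h a ha
  have h2 : cj x K = K := Subgroup.eq_of_le_of_card_ge h1 (by rw [card_cj])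
  rw [Subgroup.mem_normalizer_iff]
  intro a
  refine ⟨h a, fun h3 => ?_⟩
  rw [← h2, mem_cj] at h3
  have e : x⁻¹ * (x * a * x⁻¹) * x = a := by group
  rwa [e] at h3

theorem cj_nm {G : Type u} [Group G] {K : Subgroup G} {x : G} : x ∈ Subgroup.normalizer (K : Set G) ↔ cj x K = K := by
  rw [Subgroup.mem_normalizer_iff]
  constructor
  · intro h
    ext a
    rw [mem_cj, h (x⁻¹ * a * x)]
    have e : x * (x⁻¹ * a * x) * x⁻¹ = a := by group
    rw [e]
  · intro h a
    constructor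
    · intro h1
      rw [← h]
      exact conj_mem_cj h1
    · intro h1
      rw [← h, mem_cj] at h1
      have e : x⁻¹ * (x * a * x⁻¹) * x = a := by group
      rwa [e] at h1

namespace OD

variable {G : Type u} [Group G] (D : OD G)

/-- `m` acts on the root groups as `w` -/
def Mp (m : G) (w : W) : Prop := Maps D.X m (ac w)

variable {D}

theorem Mp.mul {m m' : G} {w w' : W} (h : D.Mp m w) (h' : D.Mp m' w') : D.Mp (m * m') (mw w w') :=
  (Maps.mul h h').congr fun k => (ac_mw w w' k).symm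

theorem Mp.inv {m : G} {w : W} (h : D.Mp m w) : D.Mp m⁻¹ (iw w) := Maps.inv h fun k => ac_iw w k

theorem Mp.one : D.Mp 1 (0, false) := Maps.one.congr fun k => (ac_one k).symm

theorem Mp.conj {m : G} {w : W} (h : D.Mp m w) {k : Rt} {x : G} (hx : x ∈ D.X k) : m * x * m⁻¹ ∈ D.X (ac w k) :=
  (h k x).2 hx

theorem Mp.conj_inv {m : G} {w : W} (h : D.Mp m w) {k : Rt} {x : G} (hx : x ∈ D.X k) :
    m⁻¹ * x * m ∈ D.X (ac (iw w) k) := by
  have := h.inv.conj hx
  rwa [inv_inv] at this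

/-- `X_{w k} ≤ K` if `X_k ≤ K ^ m` -/
theorem Mp.le {m : G} {w : W} (h : D.Mp m w) {k : Rt} {K : Subgroup G} (hK : D.X k ≤ cj m K) :
    D.X (ac (iw w) k) ≤ K := by
  intro x hx
  have h1 : m * x * m⁻¹ ∈ D.X k := by
    have := h.conj hx
    rwa [ac_iw] at this
  have h2 := hK h1
  rw [mem_cj] at h2
  have e : m⁻¹ * (m * x * m⁻¹) * m = x := by group
  rwa [e] at h2

theorem Mp.le' {m : G} {w : W} (h : D.Mp m w) {k l : Rt} (hl : ac w k = l) {K : Subgroup G} (hK : D.X k ≤ K) :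
    D.X l ≤ cj m K := by
  subst hl
  intro x hx
  rw [mem_cj]
  apply hK
  have := h.conj_inv hx
  rwa [iw_ac] at this

theorem Mp.V {m : G} {w : W} (h : D.Mp m w) {j : Fin 2} (hw : w = (0, false) ∨ w = sp j) :
    ∀ v ∈ D.V j, m * v * m⁻¹ ∈ D.V j := by
  have h1 : D.V j ≤ (D.V j).comap (MulAut.conj m).toMonoidHom := by
    refine D.V_le j _ fun k hk x hx => ?_
    show m * x * m⁻¹ ∈ D.V j
    refine D.X_le_V j (ac w k) ?_ (h.conj hx)
    rcases hw with rfl | rfl
    · rw [ac_one]; exact hk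
    · exact sp_nr j k hk
  intro v hv
  exact h1 hv

theorem Mp.U {m : G} (h : D.Mp m (0, false)) : ∀ v ∈ D.U, m * v * m⁻¹ ∈ D.U := by
  have h1 : D.U ≤ (D.U).comap (MulAut.conj m).toMonoidHom := by
    refine D.U_le _ fun k hk x hx => ?_
    show m * x * m⁻¹ ∈ D.U
    refine D.X_le_U (ac (0, false) k) ?_ (h.conj hx)
    rw [ac_one]; exact hk
  intro v hv
  exact h1 hv

theorem V_le_U (j : Fin 2) : D.V j ≤ D.U := D.V_le j _ fun k hk => D.X_le_U k (nr_ps j k hk)

variable [Finite G]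

theorem U_le_NV (j : Fin 2) : D.U ≤ Subgroup.normalizer (D.V j : Set G) := fun u hu => mem_nm (D.V_norm j u hu)

theorem mem_NV {b b' m : G} {w : W} (hb : b ∈ D.U) (hb' : b' ∈ D.U) (hm : D.Mp m w) (j : Fin 2) :
    b * m * b' ∈ Subgroup.normalizer (D.V j : Set G) ↔ w = (0, false) ∨ w = sp j := by
  have e : b * m * b' ∈ Subgroup.normalizer (D.V j : Set G) ↔ m ∈ Subgroup.normalizer (D.V j : Set G) := by
    constructor
    · intro h
      have e2 : m = b⁻¹ * (b * m * b') * b'⁻¹ := by group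
      rw [e2]
      exact mul_mem (mul_mem (inv_mem (U_le_NV j hb)) h) (inv_mem (U_le_NV j hb'))
    · intro h
      exact mul_mem (mul_mem (U_le_NV j hb) h) (U_le_NV j hb')
  rw [e]
  constructor
  · intro h
    apply stab_iff j w
    intro k hk
    by_contra hcon
    obtain ⟨x, hx, hx1⟩ := D.ne k
    have h1 := (Subgroup.mem_normalizer_iff.1 h x).1 (D.X_le_V j k hk hx)
    have h2 := D.not_V j _ (by simpa using hcon) _ (hm.conj hx) h1
    apply hx1
    have e2 : x = m⁻¹ * (m * x * m⁻¹) * m := by group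
    rw [e2, h2]
    group
  · intro h
    exact mem_nm (hm.V h)

theorem mem_NU {b b' m : G} {w : W} (hb : b ∈ D.U) (hb' : b' ∈ D.U) (hm : D.Mp m w) :
    b * m * b' ∈ Subgroup.normalizer (D.U : Set G) ↔ w = (0, false) := by
  have hU : D.U ≤ Subgroup.normalizer (D.U : Set G) := Subgroup.le_normalizer
  have e : b * m * b' ∈ Subgroup.normalizer (D.U : Set G) ↔ m ∈ Subgroup.normalizer (D.U : Set G) := by
    constructor
    · intro h
      have e2 : m = b⁻¹ * (b * m * b') * b'⁻¹ := by group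
      rw [e2]
      exact mul_mem (mul_mem (inv_mem (hU hb)) h) (inv_mem (hU hb'))
    · intro h
      exact mul_mem (mul_mem (hU hb) h) (hU hb')
  rw [e]
  constructor
  · intro h
    apply stab_U w
    intro k hk
    by_contra hcon
    obtain ⟨x, hx, hx1⟩ := D.ne k
    have h1 := (Subgroup.mem_normalizer_iff.1 h x).1 (D.X_le_U k hk hx)
    have h2 := D.not_U _ (by simpa using hcon) _ (hm.conj hx) h1
    apply hx1
    have e2 : x = m⁻¹ * (m * x * m⁻¹) * m := by group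
    rw [e2, h2]
    group
  · rintro rfl
    exact mem_nm hm.U

theorem NU_le_NV (j : Fin 2) : Subgroup.normalizer (D.U : Set G) ≤ Subgroup.normalizer (D.V j : Set G) := by
  intro g hg
  obtain ⟨w, b, hb, m, hm, b', hb', rfl⟩ := D.bru g
  rw [mem_NV hb hb' hm]
  exact Or.inl ((mem_NU hb hb' hm).1 hg)

/-- `⟨U, n_0, n_1⟩ = G` -/
theorem eq_top {K : Subgroup G} (hU : D.U ≤ K) {m0 m1 : G} (h0 : D.Mp m0 (sp 0)) (h1 : D.Mp m1 (sp 1)) (hm0 : m0 ∈ K)
    (hm1 : m1 ∈ K) : K = ⊤ := by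
  have key : ∀ c : ℕ, ∃ m ∈ K, D.Mp m ((c : ZMod 8), false) := by
    intro c
    induction c with
    | zero => exact ⟨1, one_mem _, by simpa using (Mp.one (D := D))⟩
    | succ c ih =>
      obtain ⟨m, hm, hM⟩ := ih
      refine ⟨m0 * m1 * m, mul_mem (mul_mem hm0 hm1) hm, ?_⟩
      have h2 := (h0.mul h1).mul hM
      have e : mw (mw (sp 0) (sp 1)) ((c : ZMod 8), false) = (((c + 1 : ℕ) : ZMod 8), false) := by
        have e1 : ∀ a : ZMod 8, mw (mw (sp 0) (sp 1)) (a, false) = (a + 1, false) := by decide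
        rw [e1]
        push_cast
        rfl
      rwa [e] at h2
  refine D.gen K fun k => ?_
  -- every root is `2 c + 1` or `2 c + 8`
  have hc : ∀ k : Rt, ∃ c : ZMod 8, ac (c, false) 1 = k ∨ ac (c, false) 8 = k := by decide +kernel
  obtain ⟨c, hk⟩ := hc k
  obtain ⟨m, hm, hM⟩ := key c.val
  have e : ((c.val : ℕ) : ZMod 8) = c := ZMod.natCast_zmod_val c
  rw [e] at hM
  rcases hk with hk | hk
  · have h2 := hM.le' hk ((D.X_le_U 1 (by decide)).trans hU)
    rwa [cj_eq_self hm] at h2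
  · have h2 := hM.le' hk ((D.X_le_U 8 (by decide)).trans hU)
    rwa [cj_eq_self hm] at h2

/-! ### the parabolic subgroups -/

open Classical in
variable (D) in
/-- the unipotent radicals -/
noncomputable def VV (J : Set (Fin 2)) : Subgroup G :=
  if J = Set.univ then ⊥ else if (0 : Fin 2) ∈ J then D.V 0 else if (1 : Fin 2) ∈ J then D.V 1 else D.U

omit [Finite G] in
theorem cases4 (J : Set (Fin 2)) : J = ∅ ∨ (∃ j, J = {j}) ∨ J = Set.univ := by
  by_cases h0 : (0 : Fin 2) ∈ J <;> by_cases h1 : (1 : Fin 2) ∈ J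
  · right; right
    ext i
    fin_cases i <;> simp [h0, h1]
  · right; left
    refine ⟨0, ?_⟩
    ext i
    fin_cases i <;> simp [h0, h1]
  · right; left
    refine ⟨1, ?_⟩
    ext i
    fin_cases i <;> simp [h0, h1]
  · left
    ext i
    fin_cases i <;> simp [h0, h1]

theorem single_ne_univ (j : Fin 2) : ({j} : Set (Fin 2)) ≠ Set.univ := by
  intro h
  have h1 : (0 : Fin 2) ∈ ({j} : Set (Fin 2)) := by rw [h]; trivial
  have h2 : (1 : Fin 2) ∈ ({j} : Set (Fin 2)) := by rw [h]; trivial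
  rw [Set.mem_singleton_iff] at h1 h2
  rw [← h2] at h1
  exact absurd h1 (by decide)

omit [Finite G] in
theorem VV_univ : D.VV Set.univ = ⊥ := by simp [VV]

omit [Finite G] in
theorem VV_empty : D.VV ∅ = D.U := by
  have h : (∅ : Set (Fin 2)) ≠ Set.univ := Set.empty_ne_univ
  simp [VV, h]

omit [Finite G] in
theorem VV_single (j : Fin 2) : D.VV {j} = D.V j := by
  have h := single_ne_univ j
  fin_cases j
  · have h' : ({0} : Set (Fin 2)) ≠ Set.univ := h
    show D.VV ({0} : Set (Fin 2)) = D.V 0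
    simp [VV, h']
  · have h' : ({1} : Set (Fin 2)) ≠ Set.univ := h
    show D.VV ({1} : Set (Fin 2)) = D.V 1
    simp [VV, h']

variable (D) in
/-- the parabolic subgroups -/
noncomputable def P (J : Set (Fin 2)) : Subgroup G := Subgroup.normalizer (D.VV J : Set G)

/-- the parabolic subgroups of `W` -/
def WJ (J : Set (Fin 2)) (w : W) : Prop := w = (0, false) ∨ J = Set.univ ∨ ∃ j ∈ J, w = sp j

omit [Finite G] in
theorem P_univ : D.P Set.univ = ⊤ := by
  unfold P
  rw [VV_univ, eq_top_iff]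
  intro g _
  rw [Subgroup.mem_normalizer_iff]
  intro x
  rw [Subgroup.mem_bot, Subgroup.mem_bot, conj_eq_one_iff]

omit [Finite G] in
theorem P_empty : D.P ∅ = Subgroup.normalizer (D.U : Set G) := by
  unfold P
  rw [VV_empty]

omit [Finite G] in
theorem P_single (j : Fin 2) : D.P {j} = Subgroup.normalizer (D.V j : Set G) := by
  unfold P
  rw [VV_single]

theorem mem_P {J : Set (Fin 2)} {b b' m : G} {w : W} (hb : b ∈ D.U) (hb' : b' ∈ D.U) (hm : D.Mp m w) :
    b * m * b' ∈ D.P J ↔ WJ J w := by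
  rcases cases4 J with rfl | ⟨j, rfl⟩ | rfl
  · rw [P_empty, mem_NU hb hb' hm]
    constructor
    · exact Or.inl
    · rintro (h | h | ⟨j, hj, -⟩)
      · exact h
      · exact absurd h Set.empty_ne_univ
      · exact absurd hj (Set.notMem_empty j)
  · rw [P_single, mem_NV hb hb' hm]
    constructor
    · rintro (h | h)
      · exact Or.inl h
      · exact Or.inr (Or.inr ⟨j, rfl, h⟩)
    · rintro (h | h | ⟨i, hi, h⟩)
      · exact Or.inl h
      · exact absurd h (single_ne_univ j)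
      · rw [Set.mem_singleton_iff] at hi
        subst hi
        exact Or.inr h
  · rw [P_univ]
    exact ⟨fun _ => Or.inr (Or.inl rfl), fun _ => trivial⟩

theorem mem_P' {J : Set (Fin 2)} {m : G} {w : W} (hm : D.Mp m w) : m ∈ D.P J ↔ WJ J w := by
  have := mem_P (D := D) (J := J) (one_mem _) (one_mem _) hm
  rwa [one_mul, mul_one] at this

theorem U_le_P (J : Set (Fin 2)) : D.U ≤ D.P J := by
  intro u hu
  have := (mem_P (D := D) (J := J) hu (one_mem _) Mp.one).2 (Or.inl rfl)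
  rwa [mul_one, mul_one] at this

theorem WJ_mono {J L : Set (Fin 2)} (h : J ⊆ L) {w : W} (hw : WJ J w) : WJ L w := by
  rcases hw with h1 | h1 | ⟨j, hj, h1⟩
  · exact Or.inl h1
  · exact Or.inr (Or.inl (Set.eq_univ_of_univ_subset (h1 ▸ h)))
  · exact Or.inr (Or.inr ⟨j, h hj, h1⟩)

theorem P_mono {J L : Set (Fin 2)} (h : J ⊆ L) : D.P J ≤ D.P L := by
  intro g hg
  obtain ⟨w, b, hb, m, hm, b', hb', rfl⟩ := D.bru g
  exact (mem_P hb hb' hm).2 (WJ_mono h ((mem_P hb hb' hm).1 hg))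

theorem P_le_iff {J L : Set (Fin 2)} : D.P J ≤ D.P L ↔ J ⊆ L := by
  refine ⟨fun h j hj => ?_, P_mono⟩
  obtain ⟨m, hm⟩ := D.rep (sp j)
  have h1 := h ((mem_P' (D := D) (J := J) hm).2 (Or.inr (Or.inr ⟨j, hj, rfl⟩)))
  rcases (mem_P' hm).1 h1 with h2 | h2 | ⟨l, hl, h2⟩
  · have h3 : ∀ i : Fin 2, sp i ≠ (0, false) := by decide
    exact absurd h2 (h3 j)
  · rw [h2]; trivial
  · have h3 : ∀ i k : Fin 2, sp i = sp k → i = k := by decide
    rw [h3 j l h2]
    exact hl

theorem V_anti {J L : Set (Fin 2)} (h : J ⊆ L) : D.VV L ≤ D.VV J := by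
  rcases cases4 L with rfl | ⟨l, rfl⟩ | rfl
  · rw [Set.subset_empty_iff.1 h]
  · rcases cases4 J with rfl | ⟨j, rfl⟩ | rfl
    · rw [VV_empty, VV_single]
      exact V_le_U l
    · rw [Set.singleton_subset_singleton.1 h]
    · exact absurd (Set.eq_univ_of_univ_subset h) (single_ne_univ l)
  · rw [VV_univ]
    exact bot_le

theorem VV_le_U (J : Set (Fin 2)) : D.VV J ≤ D.U := by
  rw [← VV_empty]
  exact V_anti (Set.empty_subset J)

theorem VV_ne_bot {J : Set (Fin 2)} (h : J ≠ Set.univ) : D.VV J ≠ ⊥ := by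
  rcases cases4 J with rfl | ⟨j, rfl⟩ | rfl
  · rw [VV_empty]
    intro h1
    obtain ⟨x, hx, hx1⟩ := D.ne 1
    have h2 := D.X_le_U 1 (by decide) hx
    rw [h1] at h2
    exact hx1 (Subgroup.mem_bot.1 h2)
  · rw [VV_single]
    intro h1
    obtain ⟨x, hx, hx1⟩ := D.ne 2
    have h3 : ∀ i : Fin 2, nr i 2 = true := by decide
    have h2 := D.X_le_V j 2 (h3 j) hx
    rw [h1] at h2
    exact hx1 (Subgroup.mem_bot.1 h2)
  · exact absurd rfl h

end OD

end Cfsg.Agent.H564.EPF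
end

-- part: H564/EPF/BT
section
/-!
# Borel–Tits for octagonal root groups (helper564, S3499)

Chambers = conjugates of `U`; the panel of type `j` of `cj g U` is given by `cj g (V j)`.
* `f0`, `f1`, `f2`, `f3` : ascents and descents;
* `step` : galleries in the fixed chambers of a subgroup `Q ≠ 1`;
* `bt` : a `2`-subgroup `Q ≠ 1` contained in a conjugate of `U` has `Q ≤ g V_J g⁻¹`, `N(Q) ≤ g P_J g⁻¹` with `J ≠ I`
  (the set of the fixed chambers of minimal eccentricity is contained in a panel).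
-/

set_option autoImplicit false
set_option linter.unusedSectionVars false

namespace Cfsg.Agent.H564.EPF

open Cfsg.Agent.H284 Cfsg.Agent.TitsThree.RankTwoZ

universe u

namespace OD

variable {G : Type u} [Group G] {D : OD G} [Finite G]

omit [Finite G] in
theorem X_le_cj {m : G} {w : W} (hm : D.Mp m w) {j : Fin 2} (hw : ps (ac (iw w) (sr j)) = true) :
    D.X (sr j) ≤ cj m D.U := by
  intro x hx
  rw [mem_cj]
  exact D.X_le_U _ hw (hm.conj_inv hx)

omit [Finite G] in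
theorem X_not_le (j : Fin 2) {K : Subgroup G} (h : D.X (sr j) ≤ K) : ¬ K ≤ D.V j := by
  intro h1
  obtain ⟨x, hx, hx1⟩ := D.ne (sr j)
  exact hx1 (D.not_V j (sr j) (sr_not_nr j) x hx (h1 (h hx)))

omit [Finite G] in
/-- descents -/
theorem desc_iff {m : G} {w : W} (hm : D.Mp m w) (j : Fin 2) :
    D.U ⊓ cj m D.U ≤ D.V j ↔ ps (ac (iw w) (sr j)) = false := by
  constructor
  · intro h
    by_contra hcon
    exact X_not_le j (le_inf (D.X_le_U _ (sr_ps j)) (X_le_cj hm (by simpa using hcon))) h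
  · rintro h u ⟨hu, hu'⟩
    replace hu' : u ∈ cj m D.U := hu'
    rw [mem_cj] at hu'
    exact D.cut j w m hm h u hu hu'

theorem cjU_eq {g g' : G} (h : g⁻¹ * g' ∈ Subgroup.normalizer (D.U : Set G)) : cj g' D.U = cj g D.U := by
  have e : g' = g * (g⁻¹ * g') := by group
  rw [e, cj_mul, cj_nm.1 h]

theorem cjV_eq {g g' : G} {j : Fin 2} (h : g⁻¹ * g' ∈ Subgroup.normalizer (D.V j : Set G)) :
    cj g' (D.V j) = cj g (D.V j) := by
  have e : g' = g * (g⁻¹ * g') := by group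
  rw [e, cj_mul, cj_nm.1 h]

theorem nm_of_cj {K : Subgroup G} {g g' : G} (h : cj g' K = cj g K) : g⁻¹ * g' ∈ Subgroup.normalizer (K : Set G) := by
  rw [cj_nm, cj_mul, h, cj_inv_cj]

theorem cjV_of_cjU {g g' : G} (h : cj g' D.U = cj g D.U) (j : Fin 2) : cj g' (D.V j) = cj g (D.V j) :=
  cjV_eq (NU_le_NV j (nm_of_cj h))

/-- standard position -/
theorem std (D : OD G) (g h : G) : ∃ (a : G) (w : W) (m : G), D.Mp m w ∧ cj g D.U = cj a D.U ∧ cj h D.U = cj (a * m) D.U ∧
    ∀ j, cj g (D.V j) = cj a (D.V j) := by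
  obtain ⟨w, b, hb, m, hm, b', hb', e⟩ := D.bru (g⁻¹ * h)
  have h1 : cj g D.U = cj (g * b) D.U := by rw [cj_mul, cj_eq_self hb]
  refine ⟨g * b, w, m, hm, h1, ?_, fun j => cjV_of_cjU h1 j⟩
  have e2 : h = g * b * m * b' := by
    have : h = g * (g⁻¹ * h) := by group
    rw [this, e]; group
  rw [e2, cj_mul, cj_eq_self hb']

theorem pos_iff {g h a m : G} {w : W} (hm : D.Mp m w) (h1 : cj g D.U = cj a D.U) (h2 : cj h D.U = cj (a * m) D.U)
    (h3 : ∀ j, cj g (D.V j) = cj a (D.V j)) (j : Fin 2) :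
    cj g D.U ⊓ cj h D.U ≤ cj g (D.V j) ↔ ps (ac (iw w) (sr j)) = false := by
  rw [h1, h2, h3, cj_mul, ← cj_inf, ← desc_iff hm]
  exact ⟨fun h => by have := cj_mono (x := a⁻¹) h; rwa [cj_inv_cj, cj_inv_cj] at this, fun h => cj_mono h⟩

/-- different chambers: there is a descent -/
theorem f0 {g h : G} (hne : cj g D.U ≠ cj h D.U) : ∃ j, cj g D.U ⊓ cj h D.U ≤ cj g (D.V j) := by
  obtain ⟨a, w, m, hm, h1, h2, h3⟩ := std D g h
  by_contra hcon
  push Not at hcon
  apply hne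
  have h4 : w = (0, false) := by
    apply eq_one_of
    intro j
    have := hcon j
    rw [pos_iff hm h1 h2 h3] at this
    simpa using this
  subst h4
  rw [h1, h2, cj_mul, cj_nm.1 (mem_nm hm.U)]

/-- two descents: opposite chambers -/
theorem f1 {g h : G} (hd : ∀ j, cj g D.U ⊓ cj h D.U ≤ cj g (D.V j)) : cj g D.U ⊓ cj h D.U = ⊥ := by
  obtain ⟨a, w, m, hm, h1, h2, h3⟩ := std D g h
  have h4 := opp_of w fun j => (pos_iff hm h1 h2 h3 j).1 (hd j)
  rw [h1, h2, cj_mul, ← cj_inf, cj_eq_bot_iff, eq_bot_iff]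
  rintro u ⟨hu, hu'⟩
  replace hu' : u ∈ cj m D.U := hu'
  rw [mem_cj] at hu'
  have h5 := D.opp w m hm h4 _ hu' (by
    have e : m * (m⁻¹ * u * m) * m⁻¹ = u := by group
    rw [e]; exact hu)
  rw [Subgroup.mem_bot]
  have e : u = m * (m⁻¹ * u * m) * m⁻¹ := by group
  rw [e, h5]; group

/-- every panel has a gate -/
theorem f2 (g h : G) (j : Fin 2) : ∃ g', cj g' (D.V j) = cj g (D.V j) ∧ ¬ cj g' D.U ⊓ cj h D.U ≤ cj g' (D.V j) := by
  by_cases hd : cj g D.U ⊓ cj h D.U ≤ cj g (D.V j)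
  · obtain ⟨a, w, m, hm, h1, h2, h3⟩ := std D g h
    obtain ⟨n, hn⟩ := D.rep (sp j)
    have hnV : n ∈ Subgroup.normalizer (D.V j : Set G) := mem_nm (Mp.V (D := D) hn (Or.inr rfl))
    have h4 : cj (a * n) (D.V j) = cj g (D.V j) := by rw [cj_mul, cj_nm.1 hnV, h3]
    refine ⟨a * n, h4, ?_⟩
    have hm' : D.Mp (n⁻¹ * m) (mw (iw (sp j)) w) := (Mp.inv (D := D) hn).mul hm
    rw [iw_sp] at hm'
    rw [pos_iff (g := a * n) (a := a * n) hm' rfl (by rw [h2]; congr 1; group) (fun _ => rfl), flip,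
      (pos_iff hm h1 h2 h3 j).1 hd]
    simp
  · exact ⟨g, rfl, hd⟩

/-- the gate is unique -/
theorem f3 {g h g' : G} {j : Fin 2} (hd : ¬ cj g D.U ⊓ cj h D.U ≤ cj g (D.V j)) (hV : cj g' (D.V j) = cj g (D.V j))
    (hne : cj g' D.U ≠ cj g D.U) : cj g' D.U ⊓ cj h D.U ≤ cj g' (D.V j) := by
  obtain ⟨a, w, m, hm, h1, h2, h3⟩ := std D g h
  have hw : ps (ac (iw w) (sr j)) = true := by
    rw [pos_iff hm h1 h2 h3] at hd
    simpa using hd
  have h4 : a⁻¹ * g' ∈ Subgroup.normalizer (D.V j : Set G) := nm_of_cj (by rw [hV, h3])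
  obtain ⟨w', c, hc, m', hm', c', hc', e⟩ := D.bru (a⁻¹ * g')
  have h5 := h4
  rw [e, mem_NV hc hc' hm'] at h5
  rcases h5 with rfl | rfl
  · exfalso
    apply hne
    rw [h1]
    apply cjU_eq
    rw [e, mem_NU hc hc' hm']
  · obtain ⟨x, hx, v, hv, rfl⟩ := D.fac j c hc
    have hm'V : m' ∈ Subgroup.normalizer (D.V j : Set G) := mem_nm (Mp.V (D := D) hm' (Or.inr rfl))
    have hxU : x ∈ D.U := D.X_le_U _ (sr_ps j) hx
    have hvm : v ∈ cj m' D.U := by
      have : v ∈ cj m' (D.V j) := by rw [cj_nm.1 hm'V]; exact hv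
      exact cj_mono (V_le_U j) this
    have hxm : x ∈ cj m D.U := X_le_cj hm hw hx
    have h6 : cj g' D.U = cj (a * x * m') D.U := by
      have e2 : g' = a * x * v * m' * c' := by
        have : g' = a * (a⁻¹ * g') := by group
        rw [this, e]; group
      rw [e2, cj_mul, cj_eq_self hc', cj_mul, cj_mul (a * x) v, cj_eq_self hvm, ← cj_mul]
    have h7 : cj h D.U = cj (a * x * m' * (m'⁻¹ * m)) D.U := by
      have e2 : a * x * m' * (m'⁻¹ * m) = a * x * m := by group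
      rw [h2, e2, cj_mul (a * x) m, cj_mul a x, cj_eq_self hxm, ← cj_mul]
    have h8 : D.Mp (m'⁻¹ * m) (mw (sp j) w) := by
      have := (Mp.inv (D := D) hm').mul hm
      rwa [iw_sp] at this
    rw [pos_iff h8 h6 h7 (fun i => cjV_of_cjU h6 i), flip, hw]
    rfl

/-! ### galleries -/

theorem card_lt {A B : Subgroup G} (h : A < B) : Nat.card A < Nat.card B := by
  by_contra hcon
  exact h.ne (Subgroup.eq_of_le_of_card_ge h.le (not_lt.1 hcon))

/-- going away -/
theorem lt_of_away {g h g' : G} {j : Fin 2} (hd : ¬ cj g D.U ⊓ cj h D.U ≤ cj g (D.V j))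
    (hV : cj g' (D.V j) = cj g (D.V j)) (hne : cj g' D.U ≠ cj g D.U) :
    Nat.card ↥(cj g' D.U ⊓ cj h D.U) < Nat.card ↥(cj g D.U ⊓ cj h D.U) := by
  have h1 := f3 hd hV hne
  apply card_lt
  refine lt_of_le_of_ne (le_inf ?_ inf_le_right) ?_
  · rw [hV] at h1
    exact h1.trans (cj_mono (V_le_U j))
  · intro h2
    apply hd
    rw [← h2, ← hV]
    exact h1

/-- a gallery going away from `e` -/
theorem step {Q : Subgroup G} (hQ1 : Q ≠ ⊥) : ∀ (n : ℕ) (g s e : G) (j : Fin 2),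
    Nat.card G - Nat.card ↥(cj g D.U ⊓ cj s D.U) = n → Q ≤ cj g D.U → Q ≤ cj s D.U → Q ≤ cj e D.U →
    cj g D.U ≠ cj s D.U → cj g D.U ⊓ cj e D.U ≤ cj g (D.V j) → ¬ cj g D.U ⊓ cj s D.U ≤ cj g (D.V j) →
    Nat.card ↥(cj s D.U ⊓ cj e D.U) < Nat.card ↥(cj g D.U ⊓ cj e D.U) := by
  intro n
  induction n using Nat.strong_induction_on with
  | _ n ih =>
    intro g s e j hn hg hs he hne h1 h2
    obtain ⟨i, hi⟩ := f0 hne
    have hij : i ≠ j := by rintro rfl; exact h2 hi
    obtain ⟨g', hV, hd⟩ := f2 (D := D) g s i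
    have hgg : cj g' D.U ≠ cj g D.U := by
      intro h3
      apply hd
      rw [hV, h3]
      exact hi
    -- `e` is an ascent of `g` in the panel of type `i`
    have h3 : ¬ cj g D.U ⊓ cj e D.U ≤ cj g (D.V i) := by
      intro h4
      have h5 := f1 (D := D) (g := g) (h := e) (fun l => by
        by_cases hl : l = j
        · rw [hl]; exact h1
        · rw [← fin2 i j l hij hl]; exact h4)
      apply hQ1
      rw [eq_bot_iff, ← h5]
      exact le_inf hg he
    have h4 := lt_of_away h3 hV hgg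
    by_cases h5 : cj g' D.U = cj s D.U
    · rw [← h5]; exact h4
    · have hg' : Q ≤ cj g' D.U := by
        refine (le_inf hg hs).trans (hi.trans ?_)
        rw [← hV]
        exact cj_mono (V_le_U i)
      have h6 := lt_of_away hd hV.symm hgg.symm
      have h7 : Nat.card ↥(cj g' D.U ⊓ cj s D.U) ≤ Nat.card G := Subgroup.card_le_card_group _
      have h8 := ih (Nat.card G - Nat.card ↥(cj g' D.U ⊓ cj s D.U)) (by omega) g' s e i rfl hg' hs he h5
        (f3 h3 hV hgg) hd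
      exact h8.trans h4

/-! ### Borel–Tits -/

section bt

variable (D) in
/-- the distances from `g` to the chambers fixed by `Q` -/
def dist (Q : Subgroup G) (g : G) : Set ℕ := {n | ∃ e, Q ≤ cj e D.U ∧ n = Nat.card ↥(cj g D.U ⊓ cj e D.U)}

variable (D) in
/-- the eccentricity -/
noncomputable def ecc (Q : Subgroup G) (g : G) : ℕ := sInf (D.dist Q g)

variable {Q : Subgroup G}

theorem ecc_mem {g₀ : G} (h₀ : Q ≤ cj g₀ D.U) (g : G) : ∃ e, Q ≤ cj e D.U ∧ D.ecc Q g = Nat.card ↥(cj g D.U ⊓ cj e D.U) :=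
  Nat.sInf_mem (s := D.dist Q g) ⟨_, g₀, h₀, rfl⟩

theorem ecc_le {e : G} (he : Q ≤ cj e D.U) (g : G) : D.ecc Q g ≤ Nat.card ↥(cj g D.U ⊓ cj e D.U) :=
  Nat.sInf_le ⟨e, he, rfl⟩

/-- maximisers are in a common panel -/
theorem adj_of_max (hQ1 : Q ≠ ⊥) {g s : G} (hg : Q ≤ cj g D.U) (hs : Q ≤ cj s D.U)
    (hmg : ∀ g', Q ≤ cj g' D.U → D.ecc Q g' ≤ D.ecc Q g) (hms : ∀ g', Q ≤ cj g' D.U → D.ecc Q g' ≤ D.ecc Q s)
    (hne : cj g D.U ≠ cj s D.U) : ∃ j, cj g (D.V j) = cj s (D.V j) := by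
  obtain ⟨j, hj⟩ := f0 hne
  obtain ⟨g', hV, hd⟩ := f2 (D := D) g s j
  have hg' : Q ≤ cj g' D.U := by
    refine (le_inf hg hs).trans (hj.trans ?_)
    rw [← hV]
    exact cj_mono (V_le_U j)
  have hgg : cj g' D.U ≠ cj g D.U := by
    intro h3
    apply hd
    rw [hV, h3]
    exact hj
  by_cases h1 : cj g' D.U = cj s D.U
  · exact ⟨j, by rw [← hV, cjV_of_cjU h1 j]⟩
  exfalso
  obtain ⟨e, he, hec⟩ := ecc_mem (D := D) hg g'
  by_cases h2 : cj g' D.U ⊓ cj e D.U ≤ cj g' (D.V j)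
  · have h3 := step (D := D) hQ1 _ g' s e j rfl hg' hs he h1 h2 hd
    have h4 := hms g' hg'
    have h5 := ecc_le (D := D) he s
    omega
  · have h3 := lt_of_away h2 hV.symm hgg.symm
    have h4 := hmg g' hg'
    have h5 := ecc_le (D := D) he g
    omega

theorem ecc_smul {x : G} (hx : x ∈ Subgroup.normalizer (Q : Set G)) {g₀ : G} (h₀ : Q ≤ cj g₀ D.U) (g : G) :
    D.ecc Q g ≤ D.ecc Q (x * g) := by
  obtain ⟨e, he, hec⟩ := ecc_mem (D := D) h₀ (x * g)
  have h1 : Q ≤ cj (x⁻¹ * e) D.U := by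
    rw [cj_mul, ← cj_nm.1 (inv_mem hx)]
    exact cj_mono he
  have h2 := ecc_le (D := D) h1 g
  rw [hec]
  have h3 : cj (x * g) D.U ⊓ cj e D.U = cj x (cj g D.U ⊓ cj (x⁻¹ * e) D.U) := by
    rw [cj_inf, ← cj_mul, ← cj_mul, mul_inv_cancel_left]
  rw [h3, card_cj]
  exact h2

/-- **Borel–Tits** -/
theorem bt (hQ1 : Q ≠ ⊥) {g₀ : G} (h₀ : Q ≤ cj g₀ D.U) : ∃ (g : G) (J : Set (Fin 2)), J ≠ Set.univ ∧
    Q ≤ cj g (D.VV J) ∧ Subgroup.normalizer (Q : Set G) ≤ cj g (D.P J) := by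
  obtain ⟨g, hg, hmax⟩ := Set.exists_max_image {g : G | Q ≤ cj g D.U} (D.ecc Q) (Set.toFinite _) ⟨g₀, h₀⟩
  have hg' : Q ≤ cj g D.U := hg
  -- the maximisers are invariant under `N(Q)`
  have hinv : ∀ x ∈ Subgroup.normalizer (Q : Set G), Q ≤ cj (x * g) D.U ∧
      ∀ g', Q ≤ cj g' D.U → D.ecc Q g' ≤ D.ecc Q (x * g) := by
    intro x hx
    constructor
    · rw [cj_mul, ← cj_nm.1 hx]
      exact cj_mono hg'
    · intro g' h1
      exact (hmax g' h1).trans (ecc_smul hx h₀ g)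
  have hcj : ∀ {K : Subgroup G} {x : G}, cj (x * g) K = cj g K → x ∈ cj g (Subgroup.normalizer (K : Set G)) := by
    intro K x h1
    rw [mem_cj]
    have := nm_of_cj h1
    rwa [← mul_assoc] at this
  by_cases hall : ∀ s, Q ≤ cj s D.U → (∀ g', Q ≤ cj g' D.U → D.ecc Q g' ≤ D.ecc Q s) → cj s D.U = cj g D.U
  · refine ⟨g, ∅, Set.empty_ne_univ, by rw [VV_empty]; exact hg', ?_⟩
    intro x hx
    rw [P_empty]
    obtain ⟨h1, h2⟩ := hinv x hx
    exact hcj (hall _ h1 h2)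
  · push Not at hall
    obtain ⟨s, hs, hms, hne⟩ := hall
    obtain ⟨j, hj⟩ := adj_of_max hQ1 hg' hs (fun g' h => hmax g' h) hms (Ne.symm hne)
    have hUV : ¬ cj g D.U ⊓ cj g D.U ≤ cj g (D.V j) := by
      rw [inf_idem]
      intro h1
      have h2 := cj_mono (x := g⁻¹) h1
      rw [cj_inv_cj, cj_inv_cj] at h2
      exact X_not_le j (D.X_le_U _ (sr_ps j)) h2
    have hgs : cj g D.U ⊓ cj s D.U ≤ cj g (D.V j) := by
      have := f3 hUV hj.symm hne
      rw [inf_comm, hj]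
      exact this
    refine ⟨g, {j}, single_ne_univ j, ?_, ?_⟩
    · rw [VV_single]
      exact (le_inf hg' hs).trans hgs
    · intro x hx
      rw [P_single]
      apply hcj
      obtain ⟨h1, h2⟩ := hinv x hx
      by_cases h3 : cj (x * g) D.U = cj g D.U
      · exact cjV_of_cjU h3 j
      by_cases h4 : cj (x * g) D.U = cj s D.U
      · rw [cjV_of_cjU h4 j, hj]
      obtain ⟨i, hi⟩ := adj_of_max hQ1 h1 hg' h2 (fun g' h => hmax g' h) h3
      obtain ⟨l, hl⟩ := adj_of_max hQ1 h1 hs h2 hms h4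
      by_cases hij : i = j
      · rw [← hij]; exact hi
      by_cases hlj : l = j
      · rw [← hlj, hl, hlj, hj]
      exfalso
      have hil := fin2 i j l hij hlj
      subst hil
      -- `V_i ≤ V_j`
      have h5 : cj g (D.V i) ≤ cj g (D.V j) := by
        refine le_trans (le_inf (cj_mono (V_le_U i)) ?_) hgs
        rw [← hi, hl]
        exact cj_mono (V_le_U i)
      have h6 := cj_mono (x := g⁻¹) h5
      rw [cj_inv_cj, cj_inv_cj] at h6
      exact X_not_le j (D.X_le_V i _ (nr_other i j hij)) h6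

end bt

end OD

end Cfsg.Agent.H564.EPF
end

-- part: H564/EPF/Inst
section
/-!
# `²F₄(q)` has octagonal root groups `OD` (helper564, S3499)

* `ofFull` : from the coordinates `Full` and `U ∩ U⁻ = 1`;
* `opp` : `U ∩ U⁻ = 1` in the model (as in `H735.EB.TwRow`).
-/

set_option autoImplicit false
set_option linter.unusedSectionVars false

namespace Cfsg.Agent.H564.EPF

open Cfsg.Agent.H284 (cj)
open Cfsg.Agent.SplitTwo Cfsg.Agent.SplitTwo.ZS Cfsg.Agent.TitsThree.RankTwoZ Cfsg.Agent.TitsThree.RankTwoRGD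
open Cfsg.Agent.SplitTwo.RootSysZ
open Cfsg.Agent.KFacts.TwF4 Cfsg.Agent.KFacts.TwF4.Full

universe u

theorem dbl_int (c : ℤ) : dbl ((c : ℤ) : ZMod 8) = ((2 * c : ℤ) : Rt) := by
  have h1 : ((((c : ℤ) : ZMod 8).val : ℕ) : ℤ) = c % 8 := ZMod.val_intCast c
  have h2 : dbl ((c : ℤ) : ZMod 8) = ((2 * ((((c : ℤ) : ZMod 8).val : ℕ) : ℤ) : ℤ) : Rt) := by
    unfold dbl
    push_cast
    rfl
  rw [h2, h1, ZMod.intCast_eq_intCast_iff]
  show (2 * (c % 8)) % ((2 * 8 : ℕ) : ℤ) = (2 * c) % ((2 * 8 : ℕ) : ℤ)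
  push_cast
  omega

section

variable {F : Type*} [Field F] {σ : F →+* F} {G : Type u} [Group G] (S : Full σ G)

theorem xz_val (k : Rt) : S.XZ (k.val : ℤ) = S.R.X k := by
  show S.R.X (((k.val : ℕ) : ℤ) : ZMod (2 * 8)) = S.R.X k
  rw [Int.cast_natCast]
  congr 1
  exact ZMod.natCast_zmod_val k

theorem xz_per (k : ℤ) : S.XZ (k + 16) = S.XZ k := S.zsys8.per k

/-- negative roots -/
theorem neg_le_J {k : Rt} (hk : ps k = false) : S.R.X k ≤ J S.XZ 9 16 := by
  have h1 : k.val < 16 := ZMod.val_lt k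
  rcases Nat.eq_zero_or_pos k.val with h0 | h0
  · rw [← xz_val S k, h0]
    have : S.XZ (((0 : ℕ) : ℤ)) = S.XZ 16 := (xz_per S 0).symm
    rw [this]
    exact X_le_J (by norm_num) (by norm_num)
  · have h2 : ¬ k.val ≤ 8 := by
      intro h3
      simp only [ps, Bool.and_eq_false_iff, decide_eq_false_iff_not] at hk
      omega
    rw [← xz_val S k]
    exact X_le_J (by omega) (by omega)

theorem ps_iff {k : Rt} : ps k = true ↔ 1 ≤ k.val ∧ k.val ≤ 8 := by simp [ps]

theorem pos_le_J {k : Rt} {a b : ℤ} (h1 : a ≤ k.val) (h2 : (k.val : ℤ) ≤ b) : S.R.X k ≤ J S.XZ a b := by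
  rw [← xz_val S k]
  exact X_le_J h1 h2

theorem J_le_of {a b : ℤ} (ha : 1 ≤ a) (hb : b ≤ 8) {K : Subgroup G}
    (h : ∀ k : Rt, a ≤ k.val → (k.val : ℤ) ≤ b → S.R.X k ≤ K) : J S.XZ a b ≤ K := by
  refine J_le fun k h1 h2 => ?_
  obtain ⟨n, rfl⟩ := Int.eq_ofNat_of_zero_le (by omega : 0 ≤ k)
  have h3 : (((n : ℕ) : Rt)).val = n := ZMod.val_natCast_of_lt (by omega)
  have h4 := h ((n : ℕ) : Rt) (by rw [h3]; exact h1) (by rw [h3]; exact h2)
  have e : S.XZ ((n : ℕ) : ℤ) = S.R.X ((n : ℕ) : Rt) := by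
    show S.R.X (((n : ℕ) : ℤ) : ZMod (2 * 8)) = _
    rw [Int.cast_natCast]
  rw [e]
  exact h4

theorem conj_J_pos {m : G} {w : W} (hm : Maps S.R.X m (ac w)) {a b : ℤ} (ha : 1 ≤ a) (hb : b ≤ 8)
    (h : ∀ k : Rt, a ≤ k.val → (k.val : ℤ) ≤ b → ps (ac w k) = true) {u : G} (hu : u ∈ J S.XZ a b) :
    m * u * m⁻¹ ∈ J S.XZ 1 8 := by
  have h1 : J S.XZ a b ≤ (J S.XZ 1 8).comap (MulAut.conj m).toMonoidHom := by
    refine J_le_of S ha hb fun k k1 k2 x hx => ?_
    show m * x * m⁻¹ ∈ J S.XZ 1 8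
    have h2 := (hm k x).2 hx
    have h3 := ps_iff.1 (h k k1 k2)
    exact pos_le_J S (by omega) (by omega) h2
  exact h1 hu

theorem conj_J_neg {m : G} {w : W} (hm : Maps S.R.X m (ac w)) {a b : ℤ} (ha : 1 ≤ a) (hb : b ≤ 8)
    (h : ∀ k : Rt, a ≤ k.val → (k.val : ℤ) ≤ b → ps (ac w k) = false) {u : G} (hu : u ∈ J S.XZ a b) :
    m * u * m⁻¹ ∈ J S.XZ 9 16 := by
  have h1 : J S.XZ a b ≤ (J S.XZ 9 16).comap (MulAut.conj m).toMonoidHom := by
    refine J_le_of S ha hb fun k k1 k2 x hx => ?_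
    show m * x * m⁻¹ ∈ J S.XZ 9 16
    exact neg_le_J S (h k k1 k2) ((hm k x).2 hx)
  exact h1 hu

theorem maps_rep (w : W) : ∃ m, Maps S.R.X m (ac w) := by
  obtain ⟨c, x⟩ := w
  have h1 := S.rot_maps (c.val : ℤ)
  have hc : (((c.val : ℕ) : ℤ) : ZMod 8) = c := by rw [Int.cast_natCast]; exact ZMod.natCast_zmod_val c
  cases x with
  | false =>
    refine ⟨_, h1.congr fun k => ?_⟩
    show _ = dbl c + k
    rw [← dbl_int, hc]
  | true =>
    refine ⟨_, (h1.mul (S.rot_maps (-5 : ℤ))).mul S.n1_maps |>.congr fun k => ?_⟩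
    show ((2 * (c.val : ℤ) : ℤ) : Rt) + (((2 * (-5 : ℤ) : ℤ) : Rt) + (10 - k)) = dbl c - k
    rw [← dbl_int, hc]
    push_cast
    ring

/-- **octagonal root groups of `²F₄(q)`** -/
def ofFull (hopp : ∀ y, y ∈ J S.XZ 1 8 → y ∈ J S.XZ 9 16 → y = 1) : OD G where
  X := S.R.X
  U := J S.XZ 1 8
  V j := if j = 0 then J S.XZ 2 8 else J S.XZ 1 7
  X_le_U k hk := by
    have := ps_iff.1 hk
    exact pos_le_J S (by omega) (by omega)
  U_le K h := J_le_of S le_rfl le_rfl fun k h1 h2 => h k (ps_iff.2 ⟨by omega, by omega⟩)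
  X_le_V j k hk := by
    fin_cases j
    · simp only [nr] at hk
      have h1 : 2 ≤ k.val ∧ k.val ≤ 8 := by simpa only [_root_.Nat.reduceMul, _root_.Fin.zero_eta, _root_.Fin.isValue, ↓ _root_.reduceIte, _root_.Bool.and_eq_true, _root_.decide_eq_true_eq] using hk
      exact pos_le_J S (by omega) (by omega)
    · simp only [nr] at hk
      have h1 : 1 ≤ k.val ∧ k.val ≤ 7 := by simpa only [_root_.Nat.reduceMul, _root_.Fin.mk_one, _root_.Fin.isValue, _root_.one_ne_zero, ↓ _root_.reduceIte, _root_.Bool.and_eq_true, _root_.decide_eq_true_eq] using hk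
      exact pos_le_J S (by omega) (by omega)
  V_le j K h := by
    fin_cases j
    · refine J_le_of S (by norm_num) le_rfl fun k h1 h2 => h k ?_
      have : 2 ≤ k.val ∧ k.val ≤ 8 := ⟨by omega, by omega⟩
      simpa only [nr, _root_.Fin.zero_eta, _root_.Fin.isValue, ↓ _root_.reduceIte, _root_.Nat.reduceMul, _root_.Bool.and_eq_true, _root_.decide_eq_true_eq] using this
    · refine J_le_of S le_rfl (by norm_num) fun k h1 h2 => h k ?_
      have : 1 ≤ k.val ∧ k.val ≤ 7 := ⟨by omega, by omega⟩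
      simpa only [nr, _root_.Fin.mk_one, _root_.Fin.isValue, _root_.one_ne_zero, ↓ _root_.reduceIte, _root_.Nat.reduceMul, _root_.Bool.and_eq_true, _root_.decide_eq_true_eq] using this
  not_V j k hk x hx hxV := by
    have hU : x ∈ J S.XZ 1 8 := by
      fin_cases j
      · exact J_mono (by norm_num) le_rfl hxV
      · exact J_mono le_rfl (by norm_num) hxV
    by_cases hp : ps k = true
    · rcases ps_cases j k hp with h1 | h1
      · subst h1
        fin_cases j
        · exact S.zsys8.inter 1 x (by rw [← xz_val] at hx; exact hx) hxV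
        · exact S.zsys8.inter' (k := 8) (by rw [← xz_val] at hx; exact hx) hxV
      · rw [h1] at hk
        exact absurd hk (by simp)
    · exact hopp x hU (neg_le_J S (by simpa using hp) hx)
  not_U k hk x hx hxU := hopp x hxU (neg_le_J S hk hx)
  ne k := (S.R.X k).bot_or_exists_ne_one.resolve_left (S.R.ne_bot k)
  fac j u hu := by
    fin_cases j
    · obtain ⟨x, hx, v, hv, e⟩ := S.zsys8.split_ll (by norm_num) (by norm_num) hu
      have h1 : S.XZ 1 = S.R.X 1 := xz_val S 1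
      rw [h1] at hx
      exact ⟨x, hx, v, hv, e⟩
    · obtain ⟨x, hx, v, hv, e⟩ := S.zsys8.split_rl (by norm_num) (by norm_num) hu
      have h1 : S.XZ 8 = S.R.X 8 := xz_val S 8
      rw [h1] at hx
      exact ⟨x, hx, v, hv, e⟩
  V_norm j u hu v hv := by
    fin_cases j
    · exact S.zsys8.conj_J (a := 2) (b := 8) (c := 1) (d := 8) (by norm_num) (by norm_num) (by norm_num) hu hv
    · exact S.zsys8.conj_J (a := 1) (b := 7) (c := 1) (d := 8) (by norm_num) (by norm_num) (by norm_num) hu hv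
  cut j w m hm hw u hu hu' := by
    have hmi : Maps S.R.X m⁻¹ (ac (iw w)) := Maps.inv hm fun k => ac_iw w k
    fin_cases j
    · obtain ⟨a, ha1, ha2⟩ := cut0 w hw
      obtain ⟨p, hp, q, hq, rfl⟩ := S.zsys8.split (a := 1) (b := 8) (c := (a.val : ℤ) + 2) (by omega) (by omega)
        (by norm_num) hu
      have h1 : m⁻¹ * q * m ∈ J S.XZ 1 8 := by
        have := conj_J_pos S hmi (a := (a.val : ℤ) + 2) (b := 8) (by omega) le_rfl
          (fun k k1 k2 => ha2 k (by omega) (by omega)) hq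
        rwa [inv_inv] at this
      have h2 : m⁻¹ * p * m ∈ J S.XZ 9 16 := by
        have := conj_J_neg S hmi (a := 1) (b := (a.val : ℤ) + 2 - 1) le_rfl (by omega)
          (fun k k1 k2 => ha1 k (by omega) (by omega)) hp
        rwa [inv_inv] at this
      have h3 : m⁻¹ * p * m ∈ J S.XZ 1 8 := by
        have e : m⁻¹ * p * m = (m⁻¹ * (p * q) * m) * (m⁻¹ * q * m)⁻¹ := by group
        rw [e]
        exact mul_mem hu' (inv_mem h1)
      have h4 := hopp _ h3 h2
      have h5 : p = 1 := by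
        have e : p = m * (m⁻¹ * p * m) * m⁻¹ := by group
        rw [e, h4]; group
      rw [h5, one_mul]
      exact J_mono (by omega) le_rfl hq
    · obtain ⟨a, ha1, ha2⟩ := cut1 w hw
      obtain ⟨p, hp, q, hq, rfl⟩ := S.zsys8.split (a := 1) (b := 8) (c := (a.val : ℤ) + 1) (by omega) (by omega)
        (by norm_num) hu
      have h1 : m⁻¹ * p * m ∈ J S.XZ 1 8 := by
        have := conj_J_pos S hmi (a := 1) (b := (a.val : ℤ) + 1 - 1) le_rfl (by omega)
          (fun k k1 k2 => ha1 k (by omega) (by omega)) hp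
        rwa [inv_inv] at this
      have h2 : m⁻¹ * q * m ∈ J S.XZ 9 16 := by
        have := conj_J_neg S hmi (a := (a.val : ℤ) + 1) (b := 8) (by omega) le_rfl
          (fun k k1 k2 => ha2 k (by omega) (by omega)) hq
        rwa [inv_inv] at this
      have h3 : m⁻¹ * q * m ∈ J S.XZ 1 8 := by
        have e : m⁻¹ * q * m = (m⁻¹ * p * m)⁻¹ * (m⁻¹ * (p * q) * m) := by group
        rw [e]
        exact mul_mem (inv_mem h1) hu'
      have h4 := hopp _ h3 h2
      have h5 : q = 1 := by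
        have e : q = m * (m⁻¹ * q * m) * m⁻¹ := by group
        rw [e, h4]; group
      rw [h5, mul_one]
      exact J_mono le_rfl (by omega) hp
  opp w m hm hw u hu hu' := by
    have h1 := conj_J_neg S hm (a := 1) (b := 8) le_rfl le_rfl
      (fun k k1 k2 => hw k (ps_iff.2 ⟨by omega, by omega⟩)) hu
    have h2 := hopp _ hu' h1
    have e : u = m⁻¹ * (m * u * m⁻¹) * m := by group
    rw [e, h2]; group
  bru g := by
    obtain ⟨b, hb, t, ht, w, ⟨c, hc⟩, b', hb', e⟩ := S.bruhatE g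
    rcases hc with hc | hc
    · refine ⟨((c : ZMod 8), false), b, hb, t * w, (Maps.mul ht hc).congr fun k => ?_, b', hb', by rw [e]; group⟩
      show ((2 * c : ℤ) : Rt) + k = dbl (c : ZMod 8) + k
      rw [dbl_int]
    · refine ⟨((c : ZMod 8), true), b, hb, t * w, (Maps.mul ht hc).congr fun k => ?_, b', hb', by rw [e]; group⟩
      show ((2 * c : ℤ) : Rt) - k = dbl (c : ZMod 8) - k
      rw [dbl_int]
  rep w := maps_rep S w
  mu k u hu hu1 := by
    obtain ⟨v, hv, v', hv', h⟩ := S.R.mu k u hu hu1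
    have h8 : ((8 : ℕ) : ZMod (2 * 8)) = 8 := by decide
    rw [h8] at hv hv' h
    refine ⟨v, hv, v', hv', fun l x => ?_⟩
    have e : ∀ k l : Rt, ac (rf k) l = 2 * k + 8 - l := by decide +kernel
    rw [e]
    exact h l x
  gen K h := by
    rw [eq_top_iff, ← S.R.gen]
    exact iSup_le h

end

section model

open Cfsg.Lie Cfsg.Agent.ChevalleyStructure.TwF4.Rel Cfsg.Agent.ChevalleyStructure.TwF4.Fix
open Cfsg.Agent.ChevalleyStructure.TwF4.Groups Cfsg.Agent.ChevalleyStructure.TwF4.RankOne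
open Cfsg.Agent.ChevalleyStructure.TwF4.Twisted Cfsg.Agent.ChevalleyStructure.TwF4.TwistedFix
open Cfsg.Agent.ChevalleyStructure.TwF4.BN
open Cfsg.Agent.Octagon.Pkg Cfsg.Agent.Octagon.KRel Cfsg.Agent.Octagon.KSys Cfsg.Agent.Octagon.KPar
open Cfsg.Agent.KFacts.TwF4.Inst
open Cfsg.Agent.Schreier.TwFFour (U0 B0 node1 node2 xa_U xb_U)

variable {K : Type*} [Field K] [CharP K 2] {m : ℕ} {φ : K →+* K}

theorem XX_neg {e : ℕ} (k : ℕ) (h1 : 9 ≤ k) (h2 : k ≤ 16) :
    XX K e ((k : ℕ) : ZMod (2 * 8)) ≤ (GA K negB).comap (twistedF4 K e).subtype := by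
  intro x hx
  have h0 : Cfsg.Agent.Octagon.KSys.rep ((k : ℕ) : ZMod (2 * 8)) = k := by interval_cases k <;> decide
  have hx' : (x : GL chevF4.Idx K) ∈ GA K (clsB (Cfsg.Agent.Octagon.KSys.rep ((k : ℕ) : ZMod (2 * 8)))) := hx
  rw [h0] at hx'
  exact neg_le_neg' (cls_neg (by omega)) hx'

/-- `U ∩ U⁻ = 1` -/
theorem opp [Fintype K] (hK : Fintype.card K = 2 ^ (2 * m + 1)) (hφ : Rln φ (2 ^ m)) :
    ∀ y, y ∈ J (full hK hφ).XZ 1 8 → y ∈ J (full hK hφ).XZ 9 16 → y = 1 := by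
  intro x h1 h2
  have k1 : J (full hK hφ).XZ 1 8 ≤ Cfsg.Agent.Schreier.TwFFour.U0 K (2 ^ m) := by
    refine J_le fun k h3 h4 => ?_
    obtain ⟨n, rfl⟩ := Int.eq_ofNat_of_zero_le (by omega : 0 ≤ k)
    exact XX_pos n (by exact_mod_cast h3) (by exact_mod_cast h4)
  have k2 : J (full hK hφ).XZ 9 16 ≤ (GA K negB).comap (twistedF4 K (2 ^ m)).subtype := by
    refine J_le fun k h3 h4 => ?_
    obtain ⟨n, rfl⟩ := Int.eq_ofNat_of_zero_le (by omega : 0 ≤ k)
    exact XX_neg n (by exact_mod_cast h3) (by exact_mod_cast h4)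
  exact Subtype.ext (borel_inf_negB _ (U_le_borel (k1 h1)) (k2 h2))

end model

end Cfsg.Agent.H564.EPF
end

private theorem dce_7df995b4bd54 : _root_.True := by
  try have : _root_.True := by simp only [_root_.Cfsg.Agent.H564.EPF.OD.VV.eq_1]
  try have : _root_.True := by simp only [_root_.Cfsg.Agent.H564.EPF.ps.eq_1]
  try have : _root_.True := by simp only [_root_.Cfsg.Agent.H564.EPF.iw.eq_1]
  try have : _root_.True := by simp only [_root_.Cfsg.Agent.H564.EPF.nr.eq_1]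
  try have : _root_.True := by simp only [_root_.Cfsg.Agent.H564.EPF.ac.eq_1]
  try have : _root_.True := by simp only [_root_.Cfsg.Agent.H564.EPF.mw.eq_1]
  exact _root_.True.intro
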